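import Groth.Agent.Lib.FibreLocus.Hom
import Groth.Agent.Lib.FibreFlat.Fibrewise
import Groth.Agent.Lib.GrpSchField.Shear
import Groth.Prelude.Def_AlgGrp

/-!
# A homomorphism and its kernel: diagonal and fibres
-/

set_option autoImplicit false
set_option backward.isDefEq.respectTransparency false

universe u

open CategoryTheory CategoryTheory.Limits MonoidalCategory CartesianMonoidalCategory MonObj GrpObj
open AlgebraicGeometry Topology

noncomputable section

namespace GrothLib.KerDiag14

variable {S : Scheme.{u}} {G H K : Over S} [GrpObj G] [GrpObj H] [GrpObj K]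

theorem comp_eta (T : Over S) (A : Over S) [GrpObj A] : toUnit T ≫ η[A] = 1 := (Hom.one_def).symm

/-- The kernel pair of a homomorphism is the product of the source with the kernel, and the
diagonal is a base change of the unit of the kernel. -/
theorem exists_squares (u : G ⟶ H) [IsMonHom u] (i : K ⟶ G) [IsMonHom i] (hK : AlgGrp.IsKernel i u) :
    ∃ ψ : Limits.pullback u u ⟶ K,
      IsPullback (toUnit G) (pullback.diagonal u) η[K] ψ ∧
      IsPullback (pullback.fst u u) ψ (toUnit G) (toUnit K) := by
  have hw : i ≫ u = toUnit K ≫ η[H] := hK.w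
  have hker : ∀ {T : Over S} (g : T ⟶ G), g ≫ u = 1 → ∃ κ : T ⟶ K, κ ≫ i = g := fun {T} g hg =>
    ⟨hK.lift g (toUnit T) (by rw [hg, comp_eta]), hK.lift_fst _ _ _⟩
  have hi1 : ∀ {T : Over S} (κ : T ⟶ K), (κ ≫ i) ≫ u = 1 := fun {T} κ => by
    rw [Category.assoc, hw, ← Category.assoc, toUnit_unique (κ ≫ toUnit K) (toUnit T), comp_eta]
  have hmono : ∀ {T : Over S} (a b : T ⟶ K), a ≫ i = b ≫ i → a = b := fun {T} a b h =>
    hK.hom_ext h (toUnit_unique _ _)
  let p := pullback.fst u u
  let q := pullback.snd u u
  obtain ⟨ψ, hψ⟩ := hker (p * q⁻¹) (by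
    rw [MonObj.mul_comp, GrpObj.inv_comp, show p ≫ u = q ≫ u from pullback.condition, mul_inv_cancel])
  refine ⟨ψ, ?_, ?_⟩
  · have hd : toUnit G ≫ η[K] = pullback.diagonal u ≫ ψ := hmono _ _ (by
      rw [Category.assoc, IsMonHom.one_hom i, comp_eta, Category.assoc, hψ, MonObj.comp_mul, GrpObj.comp_inv,
        pullback.diagonal_fst, pullback.diagonal_snd, mul_inv_cancel])
    refine ⟨⟨hd⟩, ⟨PullbackCone.IsLimit.mk _ (fun s => s.snd ≫ p) (fun s => toUnit_unique _ _)
      (fun s => ?_) (fun s m _ h2 => ?_)⟩⟩
    · have hc : s.snd ≫ ψ = 1 := by rw [← s.condition, toUnit_unique s.fst (toUnit _), comp_eta]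
      have h2 := congrArg (· ≫ i) hc
      simp only [Category.assoc, hψ, MonObj.comp_mul, GrpObj.comp_inv, MonObj.one_comp] at h2
      apply pullback.hom_ext
      · rw [Category.assoc, Category.assoc, pullback.diagonal_fst, Category.comp_id]
      · rw [Category.assoc, Category.assoc, pullback.diagonal_snd, Category.comp_id]
        exact mul_inv_eq_one.mp h2
    · rw [← h2, Category.assoc, pullback.diagonal_fst, Category.comp_id]
  · refine ⟨⟨toUnit_unique _ _⟩, ⟨PullbackCone.IsLimit.mk _
      (fun s => pullback.lift s.fst ((s.snd ≫ i)⁻¹ * s.fst) (by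
        rw [MonObj.mul_comp, GrpObj.inv_comp, hi1, _root_.inv_one, _root_.one_mul]))
      (fun s => pullback.lift_fst _ _ _) (fun s => hmono _ _ ?_) (fun s m h1 h2 => ?_)⟩⟩
    · rw [Category.assoc, hψ, MonObj.comp_mul, GrpObj.comp_inv, pullback.lift_fst, pullback.lift_snd,
        _root_.mul_inv_rev, _root_.inv_inv, mul_inv_cancel_left]
    · apply pullback.hom_ext
      · rw [h1, pullback.lift_fst]
      · rw [pullback.lift_snd, ← h1, ← h2, Category.assoc, hψ, MonObj.comp_mul, GrpObj.comp_inv,
          _root_.mul_inv_rev, _root_.inv_inv, inv_mul_cancel_right]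

theorem mapped_squares (u : G ⟶ H) [IsMonHom u] (i : K ⟶ G) [IsMonHom i] (hK : AlgGrp.IsKernel i u) :
    (∀ P : MorphismProperty Scheme.{u}, P.IsStableUnderBaseChange → P η[K].left → P (pullback.diagonal u.left)) ∧
    (∀ P : MorphismProperty Scheme.{u}, P.IsStableUnderBaseChange → P K.hom → P (pullback.fst u.left u.left)) ∧
    IsPullback i.left K.hom u.left η[H].left := by
  obtain ⟨ψ, h1, h2⟩ := exists_squares u i hK
  have sqP : IsPullback (pullback.fst u u).left (pullback.snd u u).left u.left u.left :=
    (IsPullback.of_hasPullback u u).map (Over.forget S)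
  let e := sqP.isoPullback
  refine ⟨fun P hP h => ?_, fun P hP h => ?_, ?_⟩
  · haveI := hP
    haveI : P.RespectsIso := MorphismProperty.IsStableUnderBaseChange.respectsIso
    have h' : P (pullback.diagonal u).left := P.of_isPullback (h1.map (Over.forget S)) h
    have e' : pullback.diagonal u.left = (pullback.diagonal u).left ≫ e.hom := by
      apply pullback.hom_ext
      · rw [pullback.diagonal_fst, Category.assoc, sqP.isoPullback_hom_fst]
        exact (congrArg (Over.Hom.left) (pullback.diagonal_fst u)).symm
      · rw [pullback.diagonal_snd, Category.assoc, sqP.isoPullback_hom_snd]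
        exact (congrArg (Over.Hom.left) (pullback.diagonal_snd u)).symm
    rw [e']
    exact (P.cancel_right_of_respectsIso _ e.hom).2 h'
  · haveI := hP
    haveI : P.RespectsIso := MorphismProperty.IsStableUnderBaseChange.respectsIso
    have hu : (toUnit K).left = K.hom := by simpa using Over.w (toUnit K)
    have h' : P (pullback.fst u u).left := P.of_isPullback (h2.map (Over.forget S)).flip (by
      change P (toUnit K).left
      rw [hu]; exact h)
    have e' : pullback.fst u.left u.left = e.inv ≫ (pullback.fst u u).left :=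
      (sqP.isoPullback_inv_fst).symm
    rw [e']
    exact (P.cancel_left_of_respectsIso e.inv _).2 h'
  · have hu : (toUnit K).left = K.hom := by simpa using Over.w (toUnit K)
    exact hu ▸ (hK.map (Over.forget S))

theorem formallyUnramified_iff (u : G ⟶ H) [IsMonHom u] (i : K ⟶ G) [IsMonHom i] (hK : AlgGrp.IsKernel i u)
    [LocallyOfFiniteType u.left] :
    (FormallyUnramified u.left ↔ ∀ s : S, FormallyUnramified ((Over.pullback (S.fromSpecResidueField s)).map u).left) ∧
    (FormallyUnramified u.left ↔ FormallyUnramified K.hom) ∧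
    (FormallyUnramified u.left ↔ IsOpenImmersion η[K].left) := by
  obtain ⟨hd, -, hsq⟩ := mapped_squares u i hK
  have h1 : FormallyUnramified u.left → FormallyUnramified K.hom := fun h =>
    MorphismProperty.of_isPullback hsq h
  haveI : LocallyOfFiniteType K.hom := MorphismProperty.of_isPullback hsq ‹_›
  have h2 : FormallyUnramified K.hom → IsOpenImmersion η[K].left := fun _ =>
    GrothLib.GrpSchField.unit_property @IsOpenImmersion inferInstance
  have h3 : IsOpenImmersion η[K].left → FormallyUnramified u.left := fun h =>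
    haveI := hd @IsOpenImmersion inferInstance h
    inferInstance
  refine ⟨⟨fun h s => MorphismProperty.of_isPullback
    (GrothLib.FibreLocus.isPullback_map_left u (S.fromSpecResidueField s)).flip h, fun h => ?_⟩,
    ⟨h1, fun h => h3 (h2 h)⟩, ⟨fun h => h2 (h1 h), h3⟩⟩
  exact GrothLib.FibreFlat.formallyUnramified_of_fibrewise u.left H.hom fun s =>
    (GrothLib.FibreLocus.prop_fibre_iff (P := @FormallyUnramified) u s).2 (h s)

theorem lqf_iff (u : G ⟶ H) [IsMonHom u] (i : K ⟶ G) [IsMonHom i] (hK : AlgGrp.IsKernel i u)
    [LocallyOfFiniteType u.left] :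
    (LocallyQuasiFinite u.left ↔ ∀ s : S, LocallyQuasiFinite ((Over.pullback (S.fromSpecResidueField s)).map u).left) ∧
    (LocallyQuasiFinite u.left ↔ LocallyQuasiFinite K.hom) ∧
    (LocallyQuasiFinite u.left ↔ ∀ s : S, DiscreteTopology ↥(K.hom.base ⁻¹' {s})) := by
  obtain ⟨-, hf, hsq⟩ := mapped_squares u i hK
  haveI : LocallyOfFiniteType K.hom := MorphismProperty.of_isPullback hsq ‹_›
  have hiff : LocallyQuasiFinite K.hom ↔ ∀ s : S, DiscreteTopology ↥(K.hom.base ⁻¹' {s}) := by
    rw [locallyQuasiFinite_iff_isDiscrete_preimage_singleton]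
    exact forall_congr' fun s => isDiscrete_iff_discreteTopology
  have h3 : LocallyQuasiFinite K.hom → LocallyQuasiFinite u.left := fun h => by
    haveI hP : LocallyQuasiFinite (pullback.fst u.left u.left) := hf @LocallyQuasiFinite inferInstance h
    haveI := GrothLib.EtSite.descendsAlong_locallyQuasiFinite.{u}
    refine LocallyQuasiFinite.of_fiberToSpecResidueField _ fun y => ?_
    rcases isEmpty_or_nonempty ↥(u.left.fiber y) with he | ⟨⟨p⟩⟩
    · exact LocallyQuasiFinite.of_comp (u.left.fiberToSpecResidueField y) (𝟙 _)
    obtain ⟨x, rfl⟩ : ∃ x, u.left x = y := ⟨u.left.fiberι y p, by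
      have : p ∈ Set.univ := trivial
      exact (Scheme.Hom.range_fiberι u.left y).le ⟨p, rfl⟩⟩
    let r := Spec.map (u.left.residueFieldMap x)
    let fy := H.left.fromSpecResidueField (u.left x)
    haveI : LocallyQuasiFinite (pullback.snd u.left u.left) := by
      rw [← pullbackSymmetry_hom_comp_fst]; infer_instance
    haveI : LocallyOfFiniteType (pullback.snd u.left u.left) := inferInstance
    have key : ∀ (P : MorphismProperty Scheme.{u}) [P.IsStableUnderBaseChange],
        P (pullback.snd u.left u.left) → P (pullback.snd (pullback.snd u.left fy) r) := by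
      intro P _ hP'
      haveI : P.RespectsIso := MorphismProperty.IsStableUnderBaseChange.respectsIso
      have gen : ∀ {T : Scheme.{u}} (g : T ⟶ H.left) (t : T ⟶ G.left), t ≫ u.left = g →
          P (pullback.snd u.left g) := by
        rintro T g t rfl
        rw [← P.cancel_left_of_respectsIso (pullbackLeftPullbackSndIso u.left u.left t).hom,
          pullbackLeftPullbackSndIso_hom_snd]
        exact MorphismProperty.pullback_snd _ _ hP'
      rw [← pullbackLeftPullbackSndIso_hom_snd u.left fy r, P.cancel_left_of_respectsIso]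
      exact gen _ (G.left.fromSpecResidueField x) (by simp [r, fy])
    haveI : Subsingleton ↥(Spec (H.left.residueField (u.left x))) := inferInstanceAs (Subsingleton (PrimeSpectrum _))
    haveI : Flat r := GrothLib.AlgSp.flat_to_field (k := H.left.residueField (u.left x)) r
    haveI : Surjective r := ⟨fun z => ⟨IsLocalRing.closedPoint (G.left.residueField x), Subsingleton.elim _ _⟩⟩
    exact (MorphismProperty.of_isPullback_of_descendsAlong (P := @LocallyQuasiFinite ⊓ @LocallyOfFiniteType)
      (Q := @Surjective ⊓ @Flat ⊓ @QuasiCompact)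
      (IsPullback.of_hasPullback (pullback.snd u.left fy) r).flip ⟨⟨inferInstance, inferInstance⟩, inferInstance⟩
      ⟨key @LocallyQuasiFinite inferInstance, key @LocallyOfFiniteType inferInstance⟩).1
  have h1 : LocallyQuasiFinite u.left → LocallyQuasiFinite K.hom := fun h =>
    MorphismProperty.of_isPullback hsq h
  refine ⟨⟨fun h s => MorphismProperty.of_isPullback
    (GrothLib.FibreLocus.isPullback_map_left u (S.fromSpecResidueField s)).flip h, fun h => h3 (hiff.2 ?_)⟩,
    ⟨h1, h3⟩, ⟨fun h => hiff.1 (h1 h), fun h => h3 (hiff.2 h)⟩⟩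
  intro s
  have hs := (hK.map (Over.pullback (S.fromSpecResidueField s))).map (Over.forget _)
  have : LocallyQuasiFinite ((Over.pullback (S.fromSpecResidueField s)).map (toUnit K)).left :=
    MorphismProperty.of_isPullback hs (h s)
  have hu : (toUnit K).left = K.hom := by simpa using Over.w (toUnit K)
  haveI : LocallyQuasiFinite (pullback.snd K.hom (S.fromSpecResidueField s)) := by
    have hw := Over.w ((Over.pullback (S.fromSpecResidueField s)).map (toUnit K))
    change ((Over.pullback (S.fromSpecResidueField s)).map (toUnit K)).left ≫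
        ((Over.pullback (S.fromSpecResidueField s)).obj (𝟙_ (Over S))).hom = pullback.snd K.hom (S.fromSpecResidueField s) at hw
    rw [← hw]
    haveI : IsIso ((Over.pullback (S.fromSpecResidueField s)).obj (𝟙_ (Over S))).hom := by
      change IsIso (pullback.snd (𝟙 S) (S.fromSpecResidueField s))
      infer_instance
    infer_instance
  haveI : LocallyQuasiFinite (K.hom.fiberToSpecResidueField s) := ‹_›
  haveI : DiscreteTopology (K.hom.fiber s) := by
    have hd := (K.hom.fiberToSpecResidueField s).isDiscrete_preimage
      (s := Set.univ) (by simp [Set.subsingleton_of_subsingleton.isDiscrete])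
    simpa [isDiscrete_univ_iff] using hd
  exact (K.hom.fiberHomeo s).discreteTopology

end GrothLib.KerDiag14

namespace GrothLib.KerDiag14

/-- A section of an unramified morphism locally of finite type is an open immersion. -/
theorem isOpenImmersion_section {X S : Scheme.{u}} (f : X ⟶ S) [FormallyUnramified f] [LocallyOfFiniteType f]
    (σ : S ⟶ X) (h : σ ≫ f = 𝟙 S) : IsOpenImmersion σ :=
  haveI : MorphismProperty.HasOfPostcompProperty @IsOpenImmersion
      (MorphismProperty.diagonal @IsOpenImmersion : MorphismProperty Scheme.{u}) :=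
    MorphismProperty.hasOfPostcompProperty_iff_le_diagonal.2 le_rfl
  MorphismProperty.of_postcomp (W := @IsOpenImmersion) (W' := MorphismProperty.diagonal @IsOpenImmersion)
    σ f (inferInstanceAs (IsOpenImmersion (pullback.diagonal f))) (by rw [h]; infer_instance)

end GrothLib.KerDiag14
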